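import Cfsg.Agent.H424.Spr.Two
import Cfsg.Agent.H834.Cov.Blk
import Cfsg.Agent.S0283

/-!
# S3938 (3/2-generation): the criterion for `PSU_n(q)` in `GL_n(q²)` (helper242, task 4835)

* `spr_psu_of` : one overgroup;
* `eq_adjoin` : the field of prime degree `n` normalised by an element of prime order `s ∤ n (q² - 1)`.
-/

set_option autoImplicit false
set_option linter.unusedSectionVars false

namespace Cfsg.Agent.H242.Spr

open Cfsg Cfsg.Geo Module Cfsg.Agent.H918 Cfsg.Agent.H251 Cfsg.Agent.H251.GeoCard Cfsg.Agent.H951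
open Cfsg.Agent.H834.Cov
open Cfsg.Agent.H424.Spr (Spr spr_of_one_up)
open Cfsg.Agent.LieClassical
open scoped Matrix MatrixGroups

theorem not_comm_psu {n q : ℕ} {F : Type} [Field F] [Fintype F] (hF : Fintype.card F = q ^ 2) (hn : 3 ≤ n)
    (h32 : ¬ (n = 3 ∧ q = 2)) : ∃ x y : PSU n F q, x * y ≠ y * x := by
  have hsim : IsSimpleGroup (PSU n F q) := Cfsg.Agent.S0283.result hF n hn h32
  by_contra hcon
  push Not at hcon
  have h1 : commutator (Cfsg.SU n F q) = ⊤ := HermPerfect.commutator_SU_eq_top hF hn h32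
  have h2 : commutator (Cfsg.SU n F q) ≤ Subgroup.center (Cfsg.SU n F q) := by
    rw [commutator_def, Subgroup.commutator_le]
    intro x _ y _
    rw [← QuotientGroup.eq_one_iff, commutatorElement_def]
    have h3 := hcon (x : PSU n F q) (y : PSU n F q)
    change ((x : PSU n F q) * y * (x : PSU n F q)⁻¹ * (y : PSU n F q)⁻¹) = 1
    rw [h3]
    group
  rw [h1, top_le_iff] at h2
  obtain ⟨x, hx⟩ := exists_ne (1 : PSU n F q)
  apply hx
  obtain ⟨y, rfl⟩ := QuotientGroup.mk_surjective x
  rw [QuotientGroup.eq_one_iff, h2]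
  trivial

/-- **one overgroup** -/
theorem spr_psu_of {n q : ℕ} {F : Type} [Field F] [Fintype F] (hF : Fintype.card F = q ^ 2) (hn : 3 ≤ n)
    (h32 : ¬ (n = 3 ∧ q = 2)) {a : GL (Fin n) F} (ha : a ∈ SUg n F q) {N : Subgroup (GL (Fin n) F)}
    (hcomm : ∀ z ∈ SUg n F q, z * a = a * z → z ∈ N)
    (hA : ∀ H, IsMaximalIn (SUg n F q) H → a ∈ H → H ≤ N ∧ ¬ SUg n F q ≤ N) : Spr (PSU n F q) := by
  have hsim : IsSimpleGroup (PSU n F q) := Cfsg.Agent.S0283.result hF n hn h32
  have hfin : Finite (Cfsg.SU n F q) := inferInstance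
  obtain ⟨a', ha'⟩ := exists_suHom ha
  have hco : ∀ M : Subgroup (Cfsg.SU n F q), IsCoatom M → a' ∈ M →
      M ≤ N.comap (suHom n F q) ∧ ¬ SUg n F q ≤ N := by
    intro M hM haM
    have h1 := hA (M.map (suHom n F q)) (isMaximalIn_map suHom_injective range_suHom hM) ⟨a', haM, ha'⟩
    exact ⟨fun g hg => h1.1 ⟨g, hg, rfl⟩, h1.2⟩
  by_cases hex : ∃ M : Subgroup (Cfsg.SU n F q), IsCoatom M ∧ a' ∈ M
  · obtain ⟨M₀, hM₀, haM₀⟩ := hex
    refine spr_of_one_up (not_comm_psu hF hn h32) (QuotientGroup.mk' (Subgroup.center (Cfsg.SU n F q)))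
      (QuotientGroup.mk'_surjective _) (s := a') (M := N.comap (suHom n F q)) ?_ ?_ ?_
    · intro z hz
      rw [QuotientGroup.ker_mk', Subgroup.mem_center_iff] at hz
      refine hcomm _ (suHom_mem z) ?_
      rw [← ha', ← map_mul, ← map_mul, hz a']
    · intro htop
      apply (hco M₀ hM₀ haM₀).2
      intro g hg
      obtain ⟨g', rfl⟩ := exists_suHom hg
      have h1 : g' ∈ N.comap (suHom n F q) := by rw [htop]; trivial
      exact h1
    · intro K _ haK hK
      obtain ⟨M, hM, hKM⟩ := (eq_top_or_exists_le_coatom K).resolve_left hK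
      exact hKM.trans (hco M hM (hKM haK)).1
  · refine spr_of_one_up (not_comm_psu hF hn h32) (QuotientGroup.mk' (Subgroup.center (Cfsg.SU n F q)))
      (QuotientGroup.mk'_surjective _) (s := a')
      (M := (QuotientGroup.mk' (Subgroup.center (Cfsg.SU n F q))).ker) le_rfl ?_ ?_
    · intro htop
      rw [QuotientGroup.ker_mk'] at htop
      obtain ⟨x, hx⟩ := exists_ne (1 : PSU n F q)
      apply hx
      obtain ⟨y, rfl⟩ := QuotientGroup.mk_surjective x
      rw [QuotientGroup.eq_one_iff, htop]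
      trivial
    · intro K _ haK hK
      obtain ⟨M, hM, hKM⟩ := (eq_top_or_exists_le_coatom K).resolve_left hK
      exact absurd ⟨M, hM, hKM haK⟩ hex

section Adjoin

variable {F : Type*} [Field F] [Fintype F] {n : ℕ}

/-- an element of prime order `s` normalising a field of prime degree `n ≠ s` in dimension `n` lies in it -/
theorem mem_of_norm (hn : n.Prime) {K : Subalgebra F (Matrix (Fin n) (Fin n) F)} (hK : IsFieldSubalgebra n K)
    {s : ℕ} (hs : s.Prime) (hsn : s ≠ n) {g : GL (Fin n) F} (hg : g ∈ subalgebraNormalizer K) (ho : orderOf g = s) :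
    (g : Matrix (Fin n) (Fin n) F) ∈ K := by
  classical
  have hne : Nonempty (Fin n) := ⟨⟨0, hn.pos⟩⟩
  have hgs : g ^ s = 1 := by rw [← ho, pow_orderOf_eq_one]
  have hN : H912.NormAlg (subalgebraNormalizer K) K := fun _ hh a ha => (hh a).mp ha
  let _ : Field K := (H912.isField_of_fieldSub hK).toField
  have hfd : Module.Finite F K := inferInstance
  have hKfin : Finite K := Module.finite_of_finite F
  have hgal : IsGalois F K := inferInstance
  let g' : subalgebraNormalizer K := ⟨g, hg⟩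
  -- conjugation by `g` is trivial on `K`
  let σ : K ≃ₐ[F] K := H912.conjSub hN g'
  have hσk : ∀ (k : ℕ) (x : K), (((σ ^ k) x : K) : Matrix (Fin n) (Fin n) F) =
      ((g ^ k : GL (Fin n) F) : Matrix (Fin n) (Fin n) F) * x *
        (((g ^ k)⁻¹ : GL (Fin n) F) : Matrix (Fin n) (Fin n) F) := by
    intro k
    induction k with
    | zero => intro x; simp
    | succ k ih =>
      intro x
      rw [pow_succ, AlgEquiv.mul_apply, ih, H912.conjSub_coe, pow_succ, _root_.mul_inv_rev, Units.val_mul,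
        Units.val_mul]
      simp only [Matrix.mul_assoc]
      rfl
  have hσs : σ ^ s = 1 := by
    apply AlgEquiv.ext
    intro x
    apply Subtype.ext
    rw [hσk, hgs]
    simp
  have hσ1 : σ = 1 := by
    have h1 : orderOf σ ∣ s := orderOf_dvd_of_pow_eq_one hσs
    have h2 : orderOf σ ∣ n := by
      have h3 : Nat.card (K ≃ₐ[F] K) = n := by
        rw [IsGalois.card_aut_eq_finrank, hK.finrank_eq]
      exact (orderOf_dvd_natCard σ).trans h3.dvd
    have h3 : Nat.Coprime s n := (Nat.coprime_primes hs hn).2 hsn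
    have h4 : orderOf σ ∣ 1 := by
      rw [← Nat.Coprime.gcd_eq_one h3]
      exact Nat.dvd_gcd h1 h2
    exact orderOf_eq_one_iff.1 (Nat.dvd_one.1 h4)
  have hcomm : ∀ x : K, (g : Matrix (Fin n) (Fin n) F) * x = x * (g : Matrix (Fin n) (Fin n) F) := by
    intro x
    have h1 := H912.conjSub_coe hN g' x
    have h2 : (H912.conjSub hN g' x : K) = x := by
      change σ x = x
      rw [hσ1]; rfl
    rw [h2] at h1
    conv_rhs => rw [h1]
    rw [Matrix.mul_assoc, ← Units.val_mul, inv_mul_cancel, Units.val_one, Matrix.mul_one]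
  have h1 := Module.finrank_mul_finrank F K (Fin n → F)
  rw [hK.finrank_eq, Module.finrank_fintype_fun_eq_card, Fintype.card_fin] at h1
  have hrank : finrank K (Fin n → F) = 1 := Nat.eq_of_mul_eq_mul_left hn.pos (by rw [h1, mul_one])
  -- `g` is `K`-linear
  let f : (Fin n → F) →ₗ[K] (Fin n → F) :=
    { toFun := fun v => (g : Matrix (Fin n) (Fin n) F) *ᵥ v
      map_add' := fun u v => Matrix.mulVec_add _ _ _
      map_smul' := fun x v => by
        change (g : Matrix (Fin n) (Fin n) F) *ᵥ ((x : Matrix (Fin n) (Fin n) F) *ᵥ v) =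
          (x : Matrix (Fin n) (Fin n) F) *ᵥ ((g : Matrix (Fin n) (Fin n) F) *ᵥ v)
        rw [Matrix.mulVec_mulVec, Matrix.mulVec_mulVec, hcomm] }
  obtain ⟨v, hv0, hv⟩ := finrank_eq_one_iff'.1 hrank
  obtain ⟨k, hk⟩ := hv (f v)
  have h3 : (g : Matrix (Fin n) (Fin n) F) = (k : Matrix (Fin n) (Fin n) F) := by
    apply Matrix.toLin'.injective
    apply LinearMap.ext
    intro w
    obtain ⟨c, rfl⟩ := hv w
    rw [Matrix.toLin'_apply, Matrix.toLin'_apply]
    have h4 : f (c • v) = k • (c • v) := by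
      rw [map_smul, ← hk, smul_smul, smul_smul, mul_comm]
    exact h4
  rw [h3]
  exact k.2

/-- fields of prime degree are generated by non-scalar elements -/
theorem eq_adjoin (hn : n.Prime) {K : Subalgebra F (Matrix (Fin n) (Fin n) F)} (hK : IsFieldSubalgebra n K)
    {x : Matrix (Fin n) (Fin n) F} (hx : x ∈ K) (hx0 : ∀ c : F, x ≠ c • (1 : Matrix (Fin n) (Fin n) F)) :
    K = Algebra.adjoin F {x} := by
  classical
  have hne : Nonempty (Fin n) := ⟨⟨0, hn.pos⟩⟩
  let _ : Field K := (H912.isField_of_fieldSub hK).toField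
  have hso : IsSimpleOrder (Subalgebra F K) := Subalgebra.isSimpleOrder_of_finrank_prime F K (by
    rw [hK.finrank_eq]; exact hn)
  have hle : Algebra.adjoin F {x} ≤ K := Algebra.adjoin_le (by
    intro y hy
    rw [Set.mem_singleton_iff.1 hy]
    exact hx)
  rcases hso.eq_bot_or_eq_top ((Algebra.adjoin F {x}).comap K.val) with h | h
  · exfalso
    have h1 : (⟨x, hx⟩ : K) ∈ (Algebra.adjoin F {x}).comap K.val := by
      rw [Subalgebra.mem_comap]
      exact Algebra.subset_adjoin (Set.mem_singleton _)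
    rw [h, Algebra.mem_bot] at h1
    obtain ⟨c, hc⟩ := h1
    apply hx0 c
    have h2 := congrArg (fun y : K => (y : Matrix (Fin n) (Fin n) F)) hc
    change algebraMap F (Matrix (Fin n) (Fin n) F) c = x at h2
    rw [← h2, Algebra.algebraMap_eq_smul_one]
  · refine le_antisymm ?_ hle
    intro y hy
    have h1 : (⟨y, hy⟩ : K) ∈ (Algebra.adjoin F {x}).comap K.val := by rw [h]; trivial
    exact h1

/-- elements of prime order `s ∤ |F| - 1` are not scalar -/
theorem ne_scalar (hn : 0 < n) {s : ℕ} (hs : s.Prime) (hs1 : ¬ s ∣ Nat.card F - 1) {x : GL (Fin n) F}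
    (ho : orderOf x = s) (c : F) : (x : Matrix (Fin n) (Fin n) F) ≠ c • (1 : Matrix (Fin n) (Fin n) F) := by
  classical
  intro hc
  have hc0 : c ≠ 0 := by
    rintro rfl
    rw [zero_smul] at hc
    have h1 : (x : Matrix (Fin n) (Fin n) F) * ((x⁻¹ : GL (Fin n) F) : Matrix (Fin n) (Fin n) F) = 1 := by
      rw [← Units.val_mul, mul_inv_cancel, Units.val_one]
    rw [hc, Matrix.zero_mul] at h1
    have h2 := congrFun (congrFun h1 ⟨0, hn⟩) ⟨0, hn⟩
    rw [Matrix.zero_apply, Matrix.one_apply_eq] at h2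
    exact zero_ne_one h2
  have hxs : x ^ s = 1 := by rw [← ho]; exact pow_orderOf_eq_one x
  have hcs : c ^ s = 1 := by
    have h5 := congrArg (fun g : GL (Fin n) F => (g : Matrix (Fin n) (Fin n) F) ⟨0, hn⟩ ⟨0, hn⟩) hxs
    simp only [Units.val_pow_eq_pow_val, hc, _root_.smul_pow, one_pow, Units.val_one, Matrix.smul_apply,
      Matrix.one_apply_eq, smul_eq_mul, mul_one] at h5
    exact h5
  have hc1 : Units.mk0 c hc0 ≠ 1 := by
    intro h
    have h6 : c = 1 := congrArg Units.val h
    rw [h6, one_smul] at hc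
    have : x = 1 := Units.ext hc
    rw [this, orderOf_one] at ho
    exact hs.one_lt.ne ho
  apply hs1
  have h6 : orderOf (Units.mk0 c hc0) = s := orderOf_eq_prime (by
    apply Units.ext
    rw [Units.val_pow_eq_pow_val, Units.val_mk0, hcs, Units.val_one]) hc1 (hp := ⟨hs⟩)
  rw [Nat.card_eq_fintype_card, ← Fintype.card_units, ← h6]
  exact orderOf_dvd_card

/-- commuting elements normalise -/
theorem mem_norm_adjoin {a z : GL (Fin n) F} (h : z * a = a * z) :
    z ∈ subalgebraNormalizer (Algebra.adjoin F {(a : Matrix (Fin n) (Fin n) F)}) := by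
  have h1 : ∀ k ∈ Algebra.adjoin F {(a : Matrix (Fin n) (Fin n) F)},
      (z : Matrix (Fin n) (Fin n) F) * k = k * (z : Matrix (Fin n) (Fin n) F) := by
    intro k hk
    have h2 : Algebra.adjoin F {(a : Matrix (Fin n) (Fin n) F)} ≤
        Subalgebra.centralizer F {(z : Matrix (Fin n) (Fin n) F)} := Algebra.adjoin_le (by
      intro y hy
      rw [Set.mem_singleton_iff.1 hy]
      change (a : Matrix (Fin n) (Fin n) F) ∈ Subalgebra.centralizer F {(z : Matrix (Fin n) (Fin n) F)}
      rw [Subalgebra.mem_centralizer_iff]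
      intro w hw
      rw [Set.mem_singleton_iff.1 hw, ← Units.val_mul, ← Units.val_mul, h])
    exact (Subalgebra.mem_centralizer_iff F).1 (h2 hk) _ (Set.mem_singleton _)
  intro k
  constructor
  · intro hk
    rw [h1 k hk, Matrix.mul_assoc, ← Units.val_mul, mul_inv_cancel, Units.val_one, Matrix.mul_one]
    exact hk
  · intro hk
    have h2 := h1 _ hk
    have h3 : (z : Matrix (Fin n) (Fin n) F) * ((z : Matrix (Fin n) (Fin n) F) * k *
        ((z⁻¹ : GL (Fin n) F) : Matrix (Fin n) (Fin n) F)) = (z : Matrix (Fin n) (Fin n) F) * k := by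
      rw [h2, Matrix.mul_assoc, ← Units.val_mul, inv_mul_cancel, Units.val_one, Matrix.mul_one]
    have h4 := (Units.mul_right_inj z).1 h3
    rw [h4] at hk
    exact hk

/-- commuting elements stabilise the fixed space -/
theorem mem_stab_fx {a z : GL (Fin n) F} (h : z * a = a * z) :
    z ∈ subspaceStabilizer (fx (Matrix.toLin' (a : Matrix (Fin n) (Fin n) F))) := by
  rw [H918.mem_subspaceStabilizer]
  intro w
  rw [mem_fx, mem_fx, Matrix.toLin'_apply, Matrix.toLin'_apply, Matrix.mulVec_mulVec, ← Units.val_mul, ← h,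
    Units.val_mul, ← Matrix.mulVec_mulVec]
  constructor
  · intro h1
    rw [h1]
  · intro h1
    have h2 := congrArg (fun y => ((z⁻¹ : GL (Fin n) F) : Matrix (Fin n) (Fin n) F) *ᵥ y) h1
    simp only [Matrix.mulVec_mulVec, ← Units.val_mul, inv_mul_cancel_left, inv_mul_cancel, Units.val_one,
      Matrix.one_mulVec] at h2
    exact h2

end Adjoin

end Cfsg.Agent.H242.Spr
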