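import Cfsg.Agent.H242.Spr.Crit
import Cfsg.Agent.H834.Cov.Su7

/-!
# S3938 (3/2-generation): `Spr (PSU_7(q))` (helper242, task 4835)

`spr_psu7` : `a` of prime order `s`, `-q` of order 7 modulo `s`; the overgroups normalise the field `F[a]`.
The analysis of the maximal overgroups is the one of `H834.Cov.noTwo_psu7`.
-/

set_option autoImplicit false
set_option linter.unusedSectionVars false

namespace Cfsg.Agent.H242.Spr

open Cfsg Cfsg.Geo Module Cfsg.Agent.H918 Cfsg.Agent.H251 Cfsg.Agent.H251.GeoCard Cfsg.Agent.H951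
open Cfsg.Agent.H834.Cov
open Cfsg.Agent.H424.Spr (Spr)
open Cfsg.Agent.LieClassical
open scoped Matrix MatrixGroups

/-- **`PSU_7(q)`** -/
theorem spr_psu7 {q : ℕ} {F : Type} [Field F] [Fintype F] (hF : Fintype.card F = q ^ 2) : Spr (PSU 7 F q) := by
  classical
  obtain ⟨p, f, hp, hf, hq, hpF⟩ := GeoU.exists_prime_power hF
  -- the primes
  obtain ⟨s, hs, hsiff, hs1, hsord⟩ := GeoU.exists_big (m := 7) hp hf (by norm_num) (by decide) (by
    rintro ⟨h, -⟩; omega)
  obtain ⟨t, ht, htiff, ht1, htord⟩ := GeoU.exists_big (m := 5) hp hf (by norm_num) (by decide) (by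
    rintro ⟨h, -⟩; omega)
  rw [← hq] at hsord htord
  have hs15 : 14 < s := by
    have h1 := Nat.le_of_dvd (by have := hs.two_le; omega) hs1
    have h2 : 2 * 7 * 1 ≤ 2 * 7 * f := Nat.mul_le_mul_left _ hf
    omega
  have hfs := Fact.mk hs
  have hft := Fact.mk ht
  -- the elements
  obtain ⟨a, ha, hao⟩ := exists_prime_elt (n := 7) hF (by norm_num) hs (by norm_num) le_rfl hsord
  obtain ⟨b, hb, hbo⟩ := exists_prime_elt (n := 7) hF (by norm_num) ht (by norm_num) (by norm_num) htord
  have hTA : ∀ H, IsMaximalIn (SUg 7 F q) H → ∀ x ∈ H, orderOf x = s →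
      ∃ K : Subalgebra F (Matrix (Fin 7) (Fin 7) F), IsFieldSubalgebra 7 K ∧ H ≤ subalgebraNormalizer K := by
    intro H hH x hx hxo
    have hsH : s ∣ Nat.card H := dvd_card_of_mem hx (by rw [hxo])
    rcases Cfsg.Agent.S5811.result q hF H hH with h | h | h | h | h | h | h | h
    · obtain ⟨W, hW0, hW, rfl⟩ := h
      exact (GeoU.kill_ts hF hs hsord (by decide) (by norm_num) (by norm_num) hW0 hW
        (hsH.trans (Subgroup.card_dvd_of_le (inf_le_inf_left _ inf_le_left)))).elim
    · obtain ⟨W, hW0, hW, hW2, rfl⟩ := h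
      have := GeoU.kill_nd hF hs hsord (by decide) (by norm_num) (by norm_num) hW0 hW2
        (hsH.trans (Subgroup.card_dvd_of_le (inf_le_inf_left _ inf_le_left)))
      omega
    · obtain ⟨D, hD, rfl⟩ := h
      exact (decomp_kill hF hs hsord (by decide) (by norm_num) (by omega) (by norm_num) hD.decomp (GeoU.dvd_left hsH)).elim
    · obtain ⟨K, hK, -, rfl⟩ := h
      exact ⟨K, hK, inf_le_left⟩
    · obtain ⟨F₀, r', P, hr', hro, hcd, -, rfl⟩ := h
      exact (subfield_kill hF hp hq hf hs hsiff hsord (by decide) (by norm_num) (by norm_num) hr'.two_le hcd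
        (GeoU.dvd_left hsH)).elim
    · obtain ⟨-, F₀, P, hcd, -, rfl⟩ := h
      exact (subfield_kill hF hp hq hf hs hsiff hsord (by decide) (by norm_num) (by norm_num) le_rfl hcd
        (GeoU.dvd_left hsH)).elim
    · obtain ⟨p', R, -, -, -, hR, habs, -, hRc, hRz, rfl⟩ := h
      refine (symp_kill (k := 1) hF hs hsord (by decide) (by norm_num) (by norm_num) (by omega) hR habs
        (Or.inl ⟨by decide, hRz, by rw [hRc]; norm_num⟩) (GeoU.dvd_left hsH)).elim
    · obtain ⟨P, hP, -, -, -, K, i1, i2, hK, ⟨e⟩⟩ := Cfsg.Agent.S5812.result q hF H hH h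
      have h1 := core_dvd (by norm_num) hP hs (not_dvd_pred hF hsord (by norm_num)) hx hxo
      have := prime_aut_u33 hK e hs h1
      omega
  have hnp := not_dvd_pred hF hsord (by norm_num)
  -- the field is generated by `a`
  have huniq : ∀ K : Subalgebra F (Matrix (Fin 7) (Fin 7) F), IsFieldSubalgebra 7 K →
      a ∈ subalgebraNormalizer K → K = Algebra.adjoin F {(a : Matrix (Fin 7) (Fin 7) F)} := by
    intro K hK haK
    exact eq_adjoin (by norm_num) hK (mem_of_norm (by norm_num) hK hs (by omega) haK hao)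
      (ne_scalar (by norm_num) hs hnp hao)
  refine spr_psu_of hF (by norm_num) (by norm_num) ha
    (N := subalgebraNormalizer (Algebra.adjoin F {(a : Matrix (Fin 7) (Fin 7) F)})) ?_ ?_
  · intro z _ hz
    exact mem_norm_adjoin hz
  · intro H hH haH
    obtain ⟨K, hK, hHK⟩ := hTA H hH a haH hao
    rw [← huniq K hK (hHK haH)]
    exact ⟨hHK, fun hle => ext_kill hF ht htord (Or.inr rfl) hK
      ((dvd_card_of_mem hb (by rw [hbo])).trans (Subgroup.card_dvd_of_le hle))⟩

end Cfsg.Agent.H242.Spr
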